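import Cfsg.Agent.ChevalleyStructure.XColumns
import Cfsg.Agent.ChevStructure.PosUnip
import Cfsg.Prelude.Def_ChevF4
import Cfsg.Agent.H523.FpfChev
import Cfsg.Agent.CpAut.RgdUntw
import Cfsg.Agent.ChevFast.F4
import Cfsg.Agent.Prune
set_option linter.all false
prune_inst 0x7fffbdfcffb9bfffffff7e77fefffffc7fb1ffffffdffd43ffea63ff1fdffb0ec9c5fbad0fe911ff1ed7689418f97b53ff7eefffea6fdc7ffffdfff41ffbffdfffffb50c519cacb40ffc6fff9bf07f8e7f3fffffffffdfffffffffffffffffbeffffffffffff
open scoped Cfsg.Agent.FastGrp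

-- part: H351/F4Out/Lin
section
/-!
# Leading terms of unipotent elements (helper351, for S3479)

* `bv`, `toF` : basis vectors (coded by natural numbers) and sparse integer vectors;
* `col1`, `col2` : linear and quadratic part of the columns of `x_r(t)`;
* `E`, `E2` : the matrices; `x_eq` : `x_r(t) = 1 + t E_r + t² E2_r`;
* `raises_prod` : a product of root elements of height one minus `1` minus the sum of the linear parts raises the height by two;
* `pow_ne_one` : the leading term of `(u - 1) ^ m`.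
-/

set_option autoImplicit false

namespace Cfsg.Agent.H351.F4Out.Lin

open Cfsg Cfsg.Lie Cfsg.Agent.ChevalleyStructure.XColumns Cfsg.Agent.ChevStructure.Level
open scoped Matrix

universe u

variable (D : ChevalleyDatum) (F : Type u) [Field F]

/-- the code of a basis vector -/
def code : D.Idx → ℕ
  | Sum.inl i => i
  | Sum.inr v => D.rank + v

/-- the basis vector with a given code -/
def bv (j : ℕ) : D.Idx → F := fun i => if code D i = j then 1 else 0

/-- sparse vectors -/
def toF (L : List (ℕ × ℤ)) : D.Idx → F := (L.map fun q => (q.2 : F) • bv D F q.1).sum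

/-- linear part of the columns -/
def col1 (r j : ℕ) : List (ℕ × ℤ) :=
  if j < D.rank then [(D.rank + r, - D.cartan j r)]
  else if j - D.rank = r then []
  else if j - D.rank = D.neg r then (List.range D.rank).map fun i => (i, (D.coroot.getD r #[]).getD i 0)
  else match D.chainEntry r (j - D.rank) with
    | [] => []
    | q :: _ => [(D.rank + q.1, q.2)]

/-- quadratic part of the columns -/
def col2 (r j : ℕ) : List (ℕ × ℤ) :=
  if j < D.rank then []
  else if j - D.rank = r then []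
  else if j - D.rank = D.neg r then [(D.rank + r, -1)]
  else match D.chainEntry r (j - D.rank) with
    | [] => []
    | [_] => []
    | _ :: q :: _ => [(D.rank + q.1, q.2)]

variable {D F}

theorem toF_nil : toF D F [] = 0 := rfl

theorem toF_cons (q : ℕ × ℤ) (L : List (ℕ × ℤ)) : toF D F (q :: L) = (q.2 : F) • bv D F q.1 + toF D F L := by
  simp [toF]

theorem toF_singleton (j : ℕ) (c : ℤ) : toF D F [(j, c)] = (c : F) • bv D F j := by
  rw [toF_cons, toF_nil, add_zero]

theorem bv_rank_add (v : ℕ) : bv D F (D.rank + v) = ev D F v := by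
  funext i
  rcases i with i | w
  · have : ¬ (i : ℕ) = D.rank + v := by have := i.2; omega
    simp [bv, code, ev, this]
  · by_cases h : (w : ℕ) = v
    · simp [bv, code, ev, h]
    · have : ¬ D.rank + (w : ℕ) = D.rank + v := by omega
      simp [bv, code, ev, h]

theorem bv_lt {j : ℕ} (hj : j < D.rank) : bv D F j = hv D F j := by
  funext i
  rcases i with i | w
  · rfl
  · have : ¬ D.rank + (w : ℕ) = j := by omega
    simp [bv, code, hv, this]

theorem code_lt (i : D.Idx) : code D i < D.rank + D.nroots := by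
  rcases i with i | w
  · have := i.2
    show (i : ℕ) < _
    omega
  · have := w.2
    show D.rank + (w : ℕ) < _
    omega

theorem code_inj {i j : D.Idx} (h : code D i = code D j) : i = j := by
  rcases i with i | w <;> rcases j with j | w'
  · exact congrArg Sum.inl (Fin.ext h)
  · have h1 : (i : ℕ) = D.rank + w' := h
    have := i.2
    omega
  · have h1 : D.rank + (w : ℕ) = j := h
    have := j.2
    omega
  · have h1 : D.rank + (w : ℕ) = D.rank + w' := h
    exact congrArg Sum.inr (Fin.ext (by omega))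

theorem bv_code (i : D.Idx) : bv D F (code D i) = Pi.single i 1 := by
  classical
  funext j
  by_cases h : j = i
  · subst h
    simp [bv]
  · have : ¬ code D j = code D i := fun h' => h (code_inj h')
    simp [bv, this, h]

/-- the checks for one root -/
structure Ok (D : ChevalleyDatum) (r : ℕ) : Prop where
  lt : r < D.nroots
  neg_lt : D.neg r < D.nroots
  neg_ne : D.neg r ≠ r
  nodup : ((row D r).map Prod.fst).Nodup
  chain : ∀ s < D.nroots, (D.chainEntry r s).length ≤ 2

theorem corv_eq (r : ℕ) : corv D F r =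
    toF D F ((List.range D.rank).map fun i => (i, (D.coroot.getD r #[]).getD i 0)) := by
  have key : ∀ (l : List ℕ) (i : D.Idx), l.Nodup →
      toF D F (l.map fun i => (i, (D.coroot.getD r #[]).getD i 0)) i =
        if code D i ∈ l then (((D.coroot.getD r #[]).getD (code D i) 0 : ℤ) : F) else 0 := by
    intro l i hl
    induction l with
    | nil => simp [toF]
    | cons a l ih =>
      rw [List.nodup_cons] at hl
      rw [List.map_cons, toF_cons, Pi.add_apply, ih hl.2, Pi.smul_apply, smul_eq_mul]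
      by_cases h : code D i = a
      · subst h
        simp [bv, hl.1]
      · have h1 : ¬ code D i = a := h
        simp only [bv, h1, _root_.Array.getD_eq_getD_getElem?, ↓ _root_.reduceIte, _root_.MulZeroClass.mul_zero, _root_.zero_add, _root_.List.mem_cons, _root_.false_or]
  funext i
  rw [key _ i List.nodup_range]
  rcases i with i | w
  · have : (code D (Sum.inl i)) ∈ List.range D.rank := List.mem_range.2 i.2
    rw [if_pos this]
    rfl
  · have : (code D (Sum.inr w)) ∉ List.range D.rank := by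
      rw [List.mem_range]
      show ¬ D.rank + (w : ℕ) < D.rank
      omega
    rw [if_neg this]
    rfl

/-- **The columns of `x_r(t)`.** -/
theorem x_mulVec_bv {r j : ℕ} (h : Ok D r) (hj : j < D.rank + D.nroots) (t : F) :
    D.x F r t *ᵥ bv D F j = bv D F j + t • toF D F (col1 D r j) + t ^ 2 • toF D F (col2 D r j) := by
  by_cases h1 : j < D.rank
  · rw [bv_lt h1, x_mulVec_hv h.lt h1, col1, if_pos h1, col2, if_pos h1, toF_nil, smul_zero, add_zero, toF_singleton,
      bv_rank_add, Int.cast_neg, neg_smul, smul_neg, smul_smul, mul_comm t, sub_eq_add_neg]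
  obtain ⟨s, rfl⟩ : ∃ s, j = D.rank + s := ⟨j - D.rank, by omega⟩
  have hs : s < D.nroots := by omega
  have e : D.rank + s - D.rank = s := by omega
  rw [bv_rank_add, col1, if_neg h1, col2, if_neg h1, e]
  by_cases h2 : s = r
  · subst h2
    rw [if_pos rfl, if_pos rfl, toF_nil, smul_zero, smul_zero, add_zero, add_zero, x_mulVec_ev_self hs]
  rw [if_neg h2, if_neg h2]
  by_cases h3 : s = D.neg r
  · rw [if_pos h3, if_pos h3, h3, x_mulVec_ev_neg h.lt h.neg_lt h.neg_ne, corv_eq, toF_singleton, bv_rank_add, Int.cast_neg,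
      Int.cast_one, neg_smul, one_smul, smul_neg, sub_eq_add_neg]
  rw [if_neg h3, if_neg h3, x_mulVec_ev h.lt hs h2 h3 h.nodup]
  have hlen := h.chain s hs
  rcases hc : D.chainEntry r s with _ | ⟨a, _ | ⟨b, _ | ⟨c, l⟩⟩⟩
  · simp [toF_nil]
  · simp [toF_nil, toF_cons, bv_rank_add, smul_smul, mul_comm]
  · simp [toF_nil, toF_cons, bv_rank_add, smul_smul, mul_comm, add_assoc]
  · rw [hc] at hlen
    simp only [_root_.List.length_cons, _root_.Order.add_one_le_iff, _root_.Order.lt_two_iff, _root_.add_le_iff_nonpos_left, _root_.nonpos_iff_eq_zero, _root_.Nat.add_eq_zero_iff, _root_.List.length_eq_zero_iff, _root_.one_ne_zero, _root_.and_false] at hlen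

variable (D F) in
/-- the linear part -/
def E (r : ℕ) : Matrix D.Idx D.Idx F := Matrix.of fun i k => toF D F (col1 D r (code D k)) i

variable (D F) in
/-- the quadratic part -/
def E2 (r : ℕ) : Matrix D.Idx D.Idx F := Matrix.of fun i k => toF D F (col2 D r (code D k)) i

theorem mulVec_single' {ι : Type*} [Fintype ι] [DecidableEq ι] (M : Matrix ι ι F) (k i : ι) :
    (M *ᵥ Pi.single k 1) i = M i k := by
  rw [Matrix.mulVec_single_one, Matrix.col_apply]

theorem exists_code {j : ℕ} (hj : j < D.rank + D.nroots) : ∃ k : D.Idx, code D k = j := by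
  by_cases h : j < D.rank
  · exact ⟨Sum.inl ⟨j, h⟩, rfl⟩
  · refine ⟨Sum.inr ⟨j - D.rank, by omega⟩, ?_⟩
    show D.rank + (j - D.rank) = j
    omega

theorem E_mulVec_bv {j : ℕ} (r : ℕ) (hj : j < D.rank + D.nroots) : E D F r *ᵥ bv D F j = toF D F (col1 D r j) := by
  classical
  obtain ⟨k, rfl⟩ := exists_code hj
  funext i
  rw [bv_code, mulVec_single']
  rfl

theorem x_eq {r : ℕ} (h : Ok D r) (t : F) : D.x F r t = 1 + t • E D F r + t ^ 2 • E2 D F r := by
  classical
  ext i k
  rw [← mulVec_single' (D.x F r t) k i, ← bv_code, x_mulVec_bv h (code_lt k) t]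
  rw [Matrix.add_apply, Matrix.add_apply, Matrix.smul_apply, Matrix.smul_apply, Pi.add_apply, Pi.add_apply, Pi.smul_apply,
    Pi.smul_apply]
  congr 2
  rw [bv_code, Matrix.one_apply, Pi.single_apply]

/-! ### Heights -/

/-- the checks for one root and a height function on the codes -/
structure Ht (D : ChevalleyDatum) (ht : ℕ → ℕ) (r : ℕ) : Prop extends Ok D r where
  one : ∀ j < D.rank + D.nroots, ∀ q ∈ col1 D r j, ht q.1 = ht j + 1
  two : ∀ j < D.rank + D.nroots, ∀ q ∈ col2 D r j, ht q.1 = ht j + 2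

theorem exists_of_toF_ne {L : List (ℕ × ℤ)} {i : D.Idx} (h : toF D F L i ≠ 0) : ∃ q ∈ L, q.1 = code D i := by
  induction L with
  | nil => exact absurd rfl h
  | cons q L ih =>
    rw [toF_cons, Pi.add_apply, Pi.smul_apply] at h
    by_cases h1 : q.1 = code D i
    · exact ⟨q, by simp, h1⟩
    · have h2 : bv D F q.1 i = 0 := by
        have : ¬ code D i = q.1 := fun h' => h1 h'.symm
        simp [bv, this]
      rw [h2, smul_zero, zero_add] at h
      obtain ⟨q', hq', h3⟩ := ih h
      exact ⟨q', by simp [hq'], h3⟩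

theorem raises_E {ht : ℕ → ℕ} {r : ℕ} (h : Ht D ht r) : Raises (fun i => ht (code D i)) 1 (E D F r) := by
  intro i k hne
  obtain ⟨q, hq, h1⟩ := exists_of_toF_ne (D := D) (F := F) (L := col1 D r (code D k)) (i := i) hne
  have := h.one _ (code_lt k) q hq
  show ht (code D k) + 1 ≤ ht (code D i)
  rw [← h1, this]

theorem raises_E2 {ht : ℕ → ℕ} {r : ℕ} (h : Ht D ht r) : Raises (fun i => ht (code D i)) 2 (E2 D F r) := by
  intro i k hne
  obtain ⟨q, hq, h1⟩ := exists_of_toF_ne (D := D) (F := F) (L := col2 D r (code D k)) (i := i) hne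
  have := h.two _ (code_lt k) q hq
  show ht (code D k) + 2 ≤ ht (code D i)
  rw [← h1, this]

theorem Raises.smul' {ι : Type*} {ℓ : ι → ℕ} {k : ℕ} {M : Matrix ι ι F} (hM : Raises ℓ k M) (c : F) : Raises ℓ k (c • M) := by
  intro i j h
  apply hM
  intro h0
  apply h
  rw [Matrix.smul_apply, h0, smul_zero]

/-- **Products of root elements of height one.** -/
theorem raises_prod {ht : ℕ → ℕ} (L : List (ℕ × F)) (hL : ∀ q ∈ L, Ht D ht q.1) :
    Raises (fun i => ht (code D i)) 1 ((L.map fun q => D.x F q.1 q.2).prod - 1) ∧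
    Raises (fun i => ht (code D i)) 2
      ((L.map fun q => D.x F q.1 q.2).prod - 1 - (L.map fun q => q.2 • E D F q.1).sum) := by
  classical
  induction L with
  | nil =>
    constructor
    · simpa using raises_zero 1
    · simpa using raises_zero 2
  | cons q L ih =>
    obtain ⟨ih1, ih2⟩ := ih fun q' hq' => hL q' (List.mem_cons_of_mem _ hq')
    have hq := hL q (by simp)
    rw [List.map_cons, List.prod_cons, List.map_cons, List.sum_cons, x_eq hq.toOk]
    set P := (L.map fun q => D.x F q.1 q.2).prod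
    set S := (L.map fun q => q.2 • E D F q.1).sum
    have h0 : Raises (fun i => ht (code D i)) 0 P := by
      have := (Raises.mono ih1 (Nat.zero_le 1)).add raises_one
      rwa [sub_add_cancel] at this
    have hE := Raises.smul' (raises_E (F := F) hq) q.2
    have hE2 := Raises.smul' (raises_E2 (F := F) hq) (q.2 ^ 2)
    constructor
    · have e : (1 + q.2 • E D F q.1 + q.2 ^ 2 • E2 D F q.1) * P - 1 =
          (P - 1) + q.2 • E D F q.1 * P + q.2 ^ 2 • E2 D F q.1 * P := by
        rw [add_mul, add_mul, one_mul]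
        abel
      rw [e]
      exact (ih1.add (hE.mul h0)).add ((hE2.mul h0).mono (by norm_num))
    · have e : (1 + q.2 • E D F q.1 + q.2 ^ 2 • E2 D F q.1) * P - 1 - (q.2 • E D F q.1 + S) =
          (P - 1 - S) + q.2 • E D F q.1 * (P - 1) + q.2 ^ 2 • E2 D F q.1 * P := by
        rw [add_mul, add_mul, one_mul, mul_sub, mul_one]
        abel
      rw [e]
      exact (ih2.add (hE.mul ih1)).add (hE2.mul h0)

/-- the leading term of a power -/
theorem raises_pow {ι : Type*} [Fintype ι] [DecidableEq ι] {ℓ : ι → ℕ} {A N : Matrix ι ι F} (hN : Raises ℓ 1 N)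
    (hA : Raises ℓ 2 (A - N)) (m : ℕ) : Raises ℓ (m + 1) (A ^ m - N ^ m) := by
  have hA1 : Raises ℓ 1 A := by
    have := (Raises.mono hA (by norm_num : 1 ≤ 2)).add hN
    rwa [sub_add_cancel] at this
  induction m with
  | zero => simpa using raises_zero 1
  | succ m ih =>
    have e : A ^ (m + 1) - N ^ (m + 1) = A ^ m * (A - N) + (A ^ m - N ^ m) * N := by
      rw [pow_succ, pow_succ, mul_sub, sub_mul]
      abel
    rw [e]
    refine Raises.add ((Raises.mul (hA1.pow m) hA).mono (by omega)) (Raises.mul ih hN)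

/-- **The leading term of `(u - 1) ^ m`**, `m` a power of the characteristic. -/
theorem entry_eq_zero {p n : ℕ} [Fact p.Prime] [CharP F p] {ι : Type*} [Fintype ι] [DecidableEq ι] [Nonempty ι]
    {ℓ : ι → ℕ} {u N : Matrix ι ι F} (hN : Raises ℓ 1 N) (hA : Raises ℓ 2 (u - 1 - N)) (hu : u ^ p ^ n = 1) {i k : ι}
    (hik : ℓ i = ℓ k + p ^ n) : (N ^ p ^ n) i k = 0 := by
  have h1 := raises_pow hN hA (p ^ n)
  have h2 : (u - 1) ^ p ^ n = 0 := by
    rw [sub_pow_char_pow_of_commute _ _ (Commute.one_right u), hu, one_pow, sub_self]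
  rw [h2, zero_sub] at h1
  by_contra h
  have := h1 i k (by rw [Matrix.neg_apply]; exact neg_ne_zero.2 h)
  omega

end Cfsg.Agent.H351.F4Out.Lin
end

-- part: H351/F4Out/Num
section
/-!
# Leading terms for `F₄` (helper351, for S3479)

* `step`, `pow_apply` : entries of powers of `∑ c ^ δ E_r` by sparse vectors;
* `not_pow_two` : `u ^ 8 ≠ 1` in characteristic 2 if the simple components of `u` are 1;
* `not_pow_seven` : the regular unipotent elements of the subsystem `B₄` in characteristic 7;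
* `not_pow_eleven` : characteristic 11.
-/

set_option autoImplicit false

namespace Cfsg.Agent.H351.F4Out.Num

open Cfsg Cfsg.Lie Cfsg.Agent.ChevalleyStructure.XColumns Cfsg.Agent.ChevStructure.Level Cfsg.Agent.H351.F4Out.Lin
open scoped Matrix

universe u

variable (D : ChevalleyDatum) {F : Type u} [Field F]

/-- one step -/
def step (R : List (ℕ × ℕ)) (v : List (ℕ × ℤ)) : List (ℕ × ℤ) :=
  v.flatMap fun a => R.flatMap fun q => (col1 D q.1 a.1).map fun b => (b.1, a.2 * b.2)

/-- several steps -/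
def steps (R : List (ℕ × ℕ)) : ℕ → List (ℕ × ℤ) → List (ℕ × ℤ)
  | 0, v => v
  | m + 1, v => step D R (steps R m v)

/-- the coefficient at a code -/
def coef (v : List (ℕ × ℤ)) (j : ℕ) : ℤ := ((v.filter fun a => a.1 = j).map Prod.snd).sum

/-- weighted sparse vectors -/
def toW (c : F) (d : ℕ → ℕ) (v : List (ℕ × ℤ)) : D.Idx → F := (v.map fun a => ((a.2 : F) * c ^ d a.1) • bv D F a.1).sum

/-- the leading term -/
def NN (c : F) (R : List (ℕ × ℕ)) : Matrix D.Idx D.Idx F := (R.map fun q => c ^ q.2 • E D F q.1).sum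

variable {D}

theorem toW_nil (c : F) (d : ℕ → ℕ) : toW D c d [] = 0 := rfl

theorem toW_cons (c : F) (d : ℕ → ℕ) (a : ℕ × ℤ) (v : List (ℕ × ℤ)) :
    toW D c d (a :: v) = ((a.2 : F) * c ^ d a.1) • bv D F a.1 + toW D c d v := by
  simp [toW]

theorem toW_append (c : F) (d : ℕ → ℕ) (v w : List (ℕ × ℤ)) : toW D c d (v ++ w) = toW D c d v + toW D c d w := by
  simp [toW]

theorem toW_col (c : F) (d : ℕ → ℕ) (a : ℤ) (k δ : ℕ) (L : List (ℕ × ℤ)) (h : ∀ b ∈ L, d b.1 = k + δ) :
    toW D c d (L.map fun b => (b.1, a * b.2)) = ((a : F) * c ^ k * c ^ δ) • toF D F L := by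
  induction L with
  | nil => simp [toW, toF]
  | cons b L ih =>
    rw [List.map_cons, toW_cons, ih fun b' hb' => h b' (List.mem_cons_of_mem _ hb'), toF_cons, smul_add, smul_smul,
      h b (by simp)]
    congr 2
    push_cast
    ring

/-- the weights are compatible -/
def Wt (D : ChevalleyDatum) (d : ℕ → ℕ) (R : List (ℕ × ℕ)) : Prop :=
  ∀ j < D.rank + D.nroots, ∀ q ∈ R, ∀ b ∈ col1 D q.1 j, d b.1 = d j + q.2

theorem NN_mulVec_bv {c : F} {d : ℕ → ℕ} {R : List (ℕ × ℕ)} (hW : Wt D d R) {j : ℕ} (hj : j < D.rank + D.nroots) (a : ℤ) :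
    NN D c R *ᵥ (((a : F) * c ^ d j) • bv D F j) = toW D c d (R.flatMap fun q => (col1 D q.1 j).map fun b => (b.1, a * b.2)) := by
  have key : ∀ R' : List (ℕ × ℕ), (∀ q ∈ R', q ∈ R) →
      NN D c R' *ᵥ (((a : F) * c ^ d j) • bv D F j) =
        toW D c d (R'.flatMap fun q => (col1 D q.1 j).map fun b => (b.1, a * b.2)) := by
    intro R' hR'
    induction R' with
    | nil => simp [NN, toW]
    | cons q R' ih =>
      have h1 : NN D c (q :: R') = c ^ q.2 • E D F q.1 + NN D c R' := by simp [NN]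
      rw [h1, Matrix.add_mulVec, ih fun q' hq' => hR' q' (List.mem_cons_of_mem _ hq'), List.flatMap_cons, toW_append]
      congr 1
      rw [toW_col c d a (d j) q.2 _ (fun b hb => hW j hj q (hR' q (by simp)) b hb), Matrix.smul_mulVec, Matrix.mulVec_smul,
        E_mulVec_bv _ hj, smul_smul]
      congr 1
      ring
  exact key R fun _ h => h

theorem NN_mulVec {c : F} {d : ℕ → ℕ} {R : List (ℕ × ℕ)} (hW : Wt D d R) {v : List (ℕ × ℤ)}
    (hv : ∀ a ∈ v, a.1 < D.rank + D.nroots) : NN D c R *ᵥ toW D c d v = toW D c d (step D R v) := by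
  induction v with
  | nil => simp [toW, step]
  | cons a v ih =>
    have h1 : step D R (a :: v) = (R.flatMap fun q => (col1 D q.1 a.1).map fun b => (b.1, a.2 * b.2)) ++ step D R v := by
      simp [step]
    rw [toW_cons, Matrix.mulVec_add, ih fun a' ha' => hv a' (List.mem_cons_of_mem _ ha'), h1, toW_append,
      NN_mulVec_bv hW (hv a (by simp))]

/-- the codes stay in range -/
def Rg (D : ChevalleyDatum) (R : List (ℕ × ℕ)) : Prop :=
  ∀ j < D.rank + D.nroots, ∀ q ∈ R, ∀ b ∈ col1 D q.1 j, b.1 < D.rank + D.nroots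

theorem step_range {R : List (ℕ × ℕ)} (hR : Rg D R) {v : List (ℕ × ℤ)} (hv : ∀ a ∈ v, a.1 < D.rank + D.nroots) :
    ∀ a ∈ step D R v, a.1 < D.rank + D.nroots := by
  intro a ha
  simp only [step, List.mem_flatMap, List.mem_map] at ha
  obtain ⟨a', ha', q, hq, b, hb, rfl⟩ := ha
  exact hR a'.1 (hv a' ha') q hq b hb

theorem steps_range {R : List (ℕ × ℕ)} (hR : Rg D R) {v : List (ℕ × ℤ)} (hv : ∀ a ∈ v, a.1 < D.rank + D.nroots) (m : ℕ) :
    ∀ a ∈ steps D R m v, a.1 < D.rank + D.nroots := by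
  induction m with
  | zero => exact hv
  | succ m ih => exact step_range hR ih

theorem NN_pow_mulVec {c : F} {d : ℕ → ℕ} {R : List (ℕ × ℕ)} (hW : Wt D d R) (hR : Rg D R) {v : List (ℕ × ℤ)}
    (hv : ∀ a ∈ v, a.1 < D.rank + D.nroots) (m : ℕ) : NN D c R ^ m *ᵥ toW D c d v = toW D c d (steps D R m v) := by
  classical
  induction m with
  | zero => simp [steps]
  | succ m ih => rw [pow_succ', ← Matrix.mulVec_mulVec, ih, NN_mulVec hW (steps_range hR hv m)]; rfl

theorem toW_apply (c : F) (d : ℕ → ℕ) (v : List (ℕ × ℤ)) (i : D.Idx) :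
    toW D c d v i = (coef v (code D i) : F) * c ^ d (code D i) := by
  induction v with
  | nil => simp [toW, coef]
  | cons a v ih =>
    rw [toW_cons, Pi.add_apply, ih, Pi.smul_apply, smul_eq_mul]
    by_cases h : a.1 = code D i
    · have h1 : bv D F a.1 i = 1 := by simp [bv, h]
      have h2 : coef (a :: v) (code D i) = a.2 + coef v (code D i) := by simp [coef, h]
      rw [h1, h2, h]
      push_cast
      ring
    · have h1 : bv D F a.1 i = 0 := by
        have : ¬ code D i = a.1 := fun h' => h h'.symm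
        simp [bv, this]
      have h2 : coef (a :: v) (code D i) = coef v (code D i) := by simp [coef, h]
      rw [h1, h2, mul_zero, zero_add]

/-- **Entries of powers.** -/
theorem NN_pow_apply {c : F} {d : ℕ → ℕ} {R : List (ℕ × ℕ)} (hW : Wt D d R) (hR : Rg D R) (m : ℕ) (i k : D.Idx) :
    (NN D c R ^ m) i k * c ^ d (code D k) = (coef (steps D R m [(code D k, 1)]) (code D i) : F) * c ^ d (code D i) := by
  classical
  rw [← toW_apply, ← NN_pow_mulVec hW hR (by intro a ha; simp only [List.mem_singleton] at ha; rw [ha]; exact code_lt k) m]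
  have h1 : toW D c d [(code D k, 1)] = c ^ d (code D k) • Pi.single k 1 := by
    rw [toW_cons, toW_nil, add_zero, bv_code]
    simp
  rw [h1, Matrix.mulVec_smul, Pi.smul_apply, mulVec_single', smul_eq_mul, mul_comm]

theorem NN_pow_ne_zero {c : F} (hc : c ≠ 0) {d : ℕ → ℕ} {R : List (ℕ × ℕ)} (hW : Wt D d R) (hR : Rg D R) {m : ℕ} {i k : D.Idx}
    {K : ℤ} (hK : coef (steps D R m [(code D k, 1)]) (code D i) = K) (hK0 : (K : F) ≠ 0) : (NN D c R ^ m) i k ≠ 0 := by
  intro h
  have h1 := NN_pow_apply (c := c) hW hR m i k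
  rw [h, zero_mul, hK] at h1
  exact mul_ne_zero hK0 (pow_ne_zero _ hc) h1.symm

/-! ### The tables of `F₄` -/

/-- the heights (shifted by 11) of the basis vectors -/
def ht4 (j : ℕ) : ℕ := [11, 11, 11, 11, 0, 1, 2, 3, 4, 5, 6, 4, 5, 6, 7, 7, 8, 9, 10, 6, 7, 8, 8, 9, 10, 9, 10, 10, 12, 12, 13,
  12, 13, 14, 14, 15, 16, 12, 13, 14, 15, 15, 16, 17, 18, 16, 17, 18, 19, 20, 21, 22].getD j 0

/-- the heights for the subsystem `B₄` (`p₁` has height `-1`, shifted by 7) -/
def htB (j : ℕ) : ℕ := [7, 7, 7, 7, 0, 1, 2, 3, 4, 5, 6, 2, 3, 4, 5, 5, 6, 7, 8, 2, 3, 4, 4, 5, 6, 5, 6, 6, 8, 8, 9, 8, 9, 10, 10, 11,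
  12, 6, 7, 8, 9, 9, 10, 11, 12, 8, 9, 10, 11, 12, 13, 14].getD j 0

/-- the coefficient of `β = 2 p₁ + 2 p₂ + p₃` (shifted by one, rounded up) -/
def dB (j : ℕ) : ℕ := [1, 1, 1, 1, 0, 0, 0, 0, 0, 0, 0, 0, 0, 0, 0, 0, 0, 0, 0, 1, 1, 1, 1, 1, 1, 1, 1, 1, 1, 1, 1, 1, 1, 1, 1, 1,
  1, 1, 1, 1, 1, 1, 1, 1, 1, 2, 2, 2, 2, 2, 2, 2].getD j 0

/-- the checks as a boolean -/
def okB (D : ChevalleyDatum) (ht : ℕ → ℕ) (r : ℕ) : Bool :=
  decide (r < D.nroots) && decide (D.neg r < D.nroots) && decide (D.neg r ≠ r) &&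
  decide ((row D r).map Prod.fst).Nodup &&
  (List.range D.nroots).all (fun s => decide ((D.chainEntry r s).length ≤ 2)) &&
  (List.range (D.rank + D.nroots)).all (fun j => (col1 D r j).all fun q => decide (ht q.1 = ht j + 1)) &&
  (List.range (D.rank + D.nroots)).all (fun j => (col2 D r j).all fun q => decide (ht q.1 = ht j + 2))

theorem Ht.of_okB {D : ChevalleyDatum} {ht : ℕ → ℕ} {r : ℕ} (h : okB D ht r = true) : Ht D ht r := by
  simp only [okB, Bool.and_eq_true, decide_eq_true_eq, List.all_eq_true, List.mem_range] at h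
  obtain ⟨⟨⟨⟨⟨⟨h1, h2⟩, h3⟩, h4⟩, h5⟩, h6⟩, h7⟩ := h
  exact { lt := h1, neg_lt := h2, neg_ne := h3, nodup := h4, chain := h5, one := h6, two := h7 }

/-- weights and ranges as a boolean -/
def wtB (D : ChevalleyDatum) (d : ℕ → ℕ) (R : List (ℕ × ℕ)) : Bool :=
  (List.range (D.rank + D.nroots)).all fun j => R.all fun q => (col1 D q.1 j).all fun b =>
    decide (d b.1 = d j + q.2) && decide (b.1 < D.rank + D.nroots)

theorem wtB_wt {D : ChevalleyDatum} {d : ℕ → ℕ} {R : List (ℕ × ℕ)} (h : wtB D d R = true) : Wt D d R := by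
  intro j hj q hq b hb
  simp only [wtB, List.all_eq_true, List.mem_range, Bool.and_eq_true, decide_eq_true_eq] at h
  exact (h j hj q hq b hb).1

theorem wtB_rg {D : ChevalleyDatum} {d : ℕ → ℕ} {R : List (ℕ × ℕ)} (h : wtB D d R = true) : Rg D R := by
  intro j hj q hq b hb
  simp only [wtB, List.all_eq_true, List.mem_range, Bool.and_eq_true, decide_eq_true_eq] at h
  exact (h j hj q hq b hb).2

theorem ht_33 : Ht chevF4 ht4 33 := Ht.of_okB (by (delta Cfsg.Agent.ChevalleyStructure.XColumns.row Cfsg.Agent.H351.F4Out.Lin.col1 Cfsg.Agent.H351.F4Out.Lin.col2 Cfsg.Agent.H351.F4Out.Num.okB; rewrite [Cfsg.Agent.ChevFast.F4.cartan, Cfsg.Agent.ChevFast.F4.chain, Cfsg.Agent.ChevFast.F4.chainEntry, Cfsg.Agent.ChevFast.F4.coroot, Cfsg.Agent.ChevFast.F4.neg]; decide +kernel))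
theorem ht_27 : Ht chevF4 ht4 27 := Ht.of_okB (by (delta Cfsg.Agent.ChevalleyStructure.XColumns.row Cfsg.Agent.H351.F4Out.Lin.col1 Cfsg.Agent.H351.F4Out.Lin.col2 Cfsg.Agent.H351.F4Out.Num.okB; rewrite [Cfsg.Agent.ChevFast.F4.cartan, Cfsg.Agent.ChevFast.F4.chain, Cfsg.Agent.ChevFast.F4.chainEntry, Cfsg.Agent.ChevFast.F4.coroot, Cfsg.Agent.ChevFast.F4.neg]; decide +kernel))
theorem ht_25 : Ht chevF4 ht4 25 := Ht.of_okB (by (delta Cfsg.Agent.ChevalleyStructure.XColumns.row Cfsg.Agent.H351.F4Out.Lin.col1 Cfsg.Agent.H351.F4Out.Lin.col2 Cfsg.Agent.H351.F4Out.Num.okB; rewrite [Cfsg.Agent.ChevFast.F4.cartan, Cfsg.Agent.ChevFast.F4.chain, Cfsg.Agent.ChevFast.F4.chainEntry, Cfsg.Agent.ChevFast.F4.coroot, Cfsg.Agent.ChevFast.F4.neg]; decide +kernel))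
theorem ht_24 : Ht chevF4 ht4 24 := Ht.of_okB (by decide +kernel)

theorem htB_41 : Ht chevF4 htB 41 := Ht.of_okB (by (delta Cfsg.Agent.ChevalleyStructure.XColumns.row Cfsg.Agent.H351.F4Out.Lin.col1 Cfsg.Agent.H351.F4Out.Lin.col2 Cfsg.Agent.H351.F4Out.Num.okB; rewrite [Cfsg.Agent.ChevFast.F4.cartan, Cfsg.Agent.ChevFast.F4.chain, Cfsg.Agent.ChevFast.F4.chainEntry, Cfsg.Agent.ChevFast.F4.coroot, Cfsg.Agent.ChevFast.F4.neg]; decide +kernel))
theorem htB_27 : Ht chevF4 htB 27 := Ht.of_okB (by (delta Cfsg.Agent.ChevalleyStructure.XColumns.row Cfsg.Agent.H351.F4Out.Lin.col1 Cfsg.Agent.H351.F4Out.Lin.col2 Cfsg.Agent.H351.F4Out.Num.okB; rewrite [Cfsg.Agent.ChevFast.F4.cartan, Cfsg.Agent.ChevFast.F4.chain, Cfsg.Agent.ChevFast.F4.chainEntry, Cfsg.Agent.ChevFast.F4.coroot, Cfsg.Agent.ChevFast.F4.neg]; decide +kernel))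
theorem htB_25 : Ht chevF4 htB 25 := Ht.of_okB (by decide +kernel)
theorem htB_24 : Ht chevF4 htB 24 := Ht.of_okB (by decide +kernel)

theorem wt_simple : wtB chevF4 (fun _ => 0) [(33, 0), (27, 0), (25, 0), (24, 0)] = true := by (delta Cfsg.Agent.H351.F4Out.Lin.col1 Cfsg.Agent.H351.F4Out.Num.wtB; rewrite [Cfsg.Agent.ChevFast.F4.cartan, Cfsg.Agent.ChevFast.F4.chainEntry, Cfsg.Agent.ChevFast.F4.coroot, Cfsg.Agent.ChevFast.F4.neg]; decide +kernel)
theorem wt_B : wtB chevF4 dB [(41, 1), (27, 0), (25, 0), (24, 0)] = true := by (delta Cfsg.Agent.H351.F4Out.Lin.col1 Cfsg.Agent.H351.F4Out.Num.wtB; rewrite [Cfsg.Agent.ChevFast.F4.cartan, Cfsg.Agent.ChevFast.F4.chainEntry, Cfsg.Agent.ChevFast.F4.coroot, Cfsg.Agent.ChevFast.F4.neg]; decide +kernel)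

theorem coef_two : coef (steps chevF4 [(33, 0), (27, 0), (25, 0), (24, 0)] 8 [(4, 1)]) 22 = -21 := by (delta Cfsg.Agent.H351.F4Out.Lin.col1 Cfsg.Agent.H351.F4Out.Num.step Cfsg.Agent.H351.F4Out.Num.steps Cfsg.Agent.H351.F4Out.Num.steps._f; rewrite [Cfsg.Agent.ChevFast.F4.cartan, Cfsg.Agent.ChevFast.F4.chainEntry, Cfsg.Agent.ChevFast.F4.coroot, Cfsg.Agent.ChevFast.F4.neg]; decide +kernel)
theorem coef_eleven : coef (steps chevF4 [(33, 0), (27, 0), (25, 0), (24, 0)] 11 [(3, 1)]) 51 = 252 := by (delta Cfsg.Agent.H351.F4Out.Lin.col1 Cfsg.Agent.H351.F4Out.Num.step Cfsg.Agent.H351.F4Out.Num.steps Cfsg.Agent.H351.F4Out.Num.steps._f; rewrite [Cfsg.Agent.ChevFast.F4.cartan, Cfsg.Agent.ChevFast.F4.chainEntry, Cfsg.Agent.ChevFast.F4.coroot, Cfsg.Agent.ChevFast.F4.neg]; decide +kernel)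
theorem coef_seven : coef (steps chevF4 [(41, 1), (27, 0), (25, 0), (24, 0)] 7 [(15, 1)]) 44 = 5 := by (delta Cfsg.Agent.H351.F4Out.Lin.col1 Cfsg.Agent.H351.F4Out.Num.step Cfsg.Agent.H351.F4Out.Num.steps Cfsg.Agent.H351.F4Out.Num.steps._f; rewrite [Cfsg.Agent.ChevFast.F4.cartan, Cfsg.Agent.ChevFast.F4.chainEntry, Cfsg.Agent.ChevFast.F4.coroot, Cfsg.Agent.ChevFast.F4.neg]; decide +kernel)

/-! ### Products of root elements -/

section General

variable {D : ChevalleyDatum} {p : ℕ} [Fact p.Prime] [CharP F p]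

theorem nonempty_idx (h : 0 < D.rank) : Nonempty D.Idx := ⟨Sum.inl ⟨0, h⟩⟩

/-- the order is a power of the characteristic -/
theorem prod_pow_eq_one {ht : ℕ → ℕ} (L : List (ℕ × F)) (hL : ∀ q ∈ L, Ht D ht q.1) {B n : ℕ}
    (hB : ∀ i : D.Idx, ht (code D i) < B) (hn : B ≤ p ^ n) (h0 : 0 < D.rank) :
    (L.map fun q => D.x F q.1 q.2).prod ^ p ^ n = 1 := by
  have := nonempty_idx h0
  have h1 := (raises_prod (F := F) L hL).1
  have h2 := (h1.pow (p ^ n)).eq_zero hB (by omega)
  rw [sub_pow_char_pow_of_commute _ _ (Commute.one_right _), one_pow, sub_eq_zero] at h2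
  exact h2

/-- **The order is large.** -/
theorem prod_pow_ne_one {ht : ℕ → ℕ} (L : List (ℕ × F)) (hL : ∀ q ∈ L, Ht D ht q.1) {n : ℕ} (h0 : 0 < D.rank)
    {c : F} (hc : c ≠ 0) {d : ℕ → ℕ} {R : List (ℕ × ℕ)} (hR : ∀ q ∈ R, Ht D ht q.1) (hW : wtB D d R = true)
    (hNN : (L.map fun q => q.2 • E D F q.1).sum = NN D c R) {i k : D.Idx} (hik : ht (code D i) = ht (code D k) + p ^ n)
    {K : ℤ} (hK : coef (steps D R (p ^ n) [(code D k, 1)]) (code D i) = K) (hK0 : (K : F) ≠ 0) :
    (L.map fun q => D.x F q.1 q.2).prod ^ p ^ n ≠ 1 := by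
  intro h
  have := nonempty_idx h0
  have h1 := (raises_prod (F := F) L hL).2
  rw [hNN] at h1
  have h2 : Raises (fun i => ht (code D i)) 1 (NN D c R) := by
    rw [NN]
    clear hW hNN h1 hK
    induction R with
    | nil => simpa using raises_zero 1
    | cons q R ih =>
      rw [List.map_cons, List.sum_cons]
      exact (Raises.smul' (raises_E (hR q (by simp))) _).add (ih fun q' hq' => hR q' (List.mem_cons_of_mem _ hq'))
  exact NN_pow_ne_zero hc (wtB_wt hW) (wtB_rg hW) hK hK0 (entry_eq_zero h2 h1 h hik)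

end General

/-! ### `F₄` -/

/-- the index of a code -/
def ix (j : ℕ) (h : j < 48) : chevF4.Idx := Sum.inr ⟨j, h⟩

theorem ht4_lt (i : chevF4.Idx) : ht4 (code chevF4 i) < 23 := by
  have h : ∀ j < 52, ht4 j < 23 := by decide +kernel
  exact h _ (code_lt i)

theorem htB_lt (i : chevF4.Idx) : htB (code chevF4 i) < 15 := by
  have h : ∀ j < 52, htB j < 15 := by decide +kernel
  exact h _ (code_lt i)

/-- **Characteristic 2**: the simple components are one. -/
theorem two_ne [CharP F 2] (L : List (ℕ × F)) (hL : ∀ q ∈ L, q.1 = 33 ∨ q.1 = 27 ∨ q.1 = 25 ∨ q.1 = 24)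
    (hs : (L.map fun q => q.2 • E chevF4 F q.1).sum = NN chevF4 (1 : F) [(33, 0), (27, 0), (25, 0), (24, 0)]) :
    (L.map fun q => chevF4.x F q.1 q.2).prod ^ 8 ≠ 1 := by
  have hf : Fact (Nat.Prime 2) := ⟨Nat.prime_two⟩
  have key : ∀ r : ℕ, (r = 33 ∨ r = 27 ∨ r = 25 ∨ r = 24) → Ht chevF4 ht4 r := by
    rintro r (rfl | rfl | rfl | rfl)
    · exact ht_33
    · exact ht_27
    · exact ht_25
    · exact ht_24
  have h := prod_pow_ne_one (D := chevF4) (p := 2) (n := 3) (F := F) (ht := ht4) L (fun q hq => key _ (hL q hq))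
    (by decide) one_ne_zero (d := fun _ => 0) (R := [(33, 0), (27, 0), (25, 0), (24, 0)])
    (fun q hq => key _ (by simp at hq; rcases hq with rfl | rfl | rfl | rfl <;> simp)) wt_simple hs
    (i := ix 18 (by norm_num)) (k := ix 0 (by norm_num)) rfl (K := -21) coef_two (by
      have h1 : (21 : F) = 1 := by
        have h2 : (2 : F) = 0 := by exact_mod_cast CharP.cast_eq_zero F 2
        linear_combination 10 * h2
      push_cast
      rw [h1]
      exact neg_ne_zero.2 one_ne_zero)
  exact h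

theorem two_eq [CharP F 2] (L : List (ℕ × F)) (hL : ∀ q ∈ L, q.1 = 33 ∨ q.1 = 27 ∨ q.1 = 25 ∨ q.1 = 24) :
    (L.map fun q => chevF4.x F q.1 q.2).prod ^ 2 ^ 5 = 1 := by
  have hf : Fact (Nat.Prime 2) := ⟨Nat.prime_two⟩
  refine prod_pow_eq_one (ht := ht4) L (fun q hq => ?_) ht4_lt (by norm_num) (by decide)
  rcases hL q hq with h | h | h | h <;> rw [h]
  · exact ht_33
  · exact ht_27
  · exact ht_25
  · exact ht_24

/-- **Characteristic 11**. -/
theorem eleven_ne [CharP F 11] : ([(33, 1), (27, 1), (25, 1), (24, 1)].map fun q : ℕ × F => chevF4.x F q.1 q.2).prod ^ 11 ≠ 1 := by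
  have hf : Fact (Nat.Prime 11) := ⟨by norm_num⟩
  have key : ∀ r : ℕ, (r = 33 ∨ r = 27 ∨ r = 25 ∨ r = 24) → Ht chevF4 ht4 r := by
    rintro r (rfl | rfl | rfl | rfl)
    · exact ht_33
    · exact ht_27
    · exact ht_25
    · exact ht_24
  have h := prod_pow_ne_one (D := chevF4) (p := 11) (n := 1) (F := F) (ht := ht4) [(33, 1), (27, 1), (25, 1), (24, 1)]
    (fun q hq => key _ (by simp at hq; rcases hq with rfl | rfl | rfl | rfl <;> simp))
    (by decide) one_ne_zero (d := fun _ => 0) (R := [(33, 0), (27, 0), (25, 0), (24, 0)])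
    (fun q hq => key _ (by simp at hq; rcases hq with rfl | rfl | rfl | rfl <;> simp)) wt_simple (by simp [NN])
    (i := ix 47 (by norm_num)) (k := (Sum.inl (3 : Fin 4) : chevF4.Idx)) rfl (K := 252) coef_eleven (by
      have h2 : (11 : F) = 0 := by exact_mod_cast CharP.cast_eq_zero F 11
      have h1 : ((252 : ℤ) : F) = -1 := by
        push_cast
        linear_combination 23 * h2
      rw [h1]
      exact neg_ne_zero.2 one_ne_zero)
  simpa only [_root_.List.map_cons, _root_.List.map_nil, _root_.List.prod_cons, _root_.List.prod_nil, _root_.mul_one, _root_.ne_eq, _root_.pow_one] using h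

/-- **Characteristic 7**: regular unipotent elements of the subsystem `B₄`. -/
theorem seven_ne [CharP F 7] {c : F} (hc : c ≠ 0) :
    ([(41, c), (27, 1), (25, 1), (24, 1)].map fun q : ℕ × F => chevF4.x F q.1 q.2).prod ^ 7 ≠ 1 := by
  have hf : Fact (Nat.Prime 7) := ⟨by norm_num⟩
  have key : ∀ r : ℕ, (r = 41 ∨ r = 27 ∨ r = 25 ∨ r = 24) → Ht chevF4 htB r := by
    rintro r (rfl | rfl | rfl | rfl)
    · exact htB_41
    · exact htB_27
    · exact htB_25
    · exact htB_24
  have h := prod_pow_ne_one (D := chevF4) (p := 7) (n := 1) (F := F) (ht := htB) [(41, c), (27, 1), (25, 1), (24, 1)]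
    (fun q hq => key _ (by simp at hq; rcases hq with rfl | rfl | rfl | rfl <;> simp))
    (by decide) hc (d := dB) (R := [(41, 1), (27, 0), (25, 0), (24, 0)])
    (fun q hq => key _ (by simp at hq; rcases hq with rfl | rfl | rfl | rfl <;> simp)) wt_B (by simp [NN])
    (i := ix 40 (by norm_num)) (k := ix 11 (by norm_num)) rfl (K := 5) coef_seven (by
      have h2 : (7 : F) = 0 := by exact_mod_cast CharP.cast_eq_zero F 7
      intro h0
      have h1 : ((5 : ℤ) : F) = 5 := by push_cast; rfl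
      rw [h1] at h0
      exact one_ne_zero (α := F) (by linear_combination 3 * h0 - 2 * h2))
  simpa only [_root_.List.map_cons, _root_.List.map_nil, _root_.List.prod_cons, _root_.List.prod_nil, _root_.mul_one, _root_.ne_eq, _root_.pow_one] using h

theorem seven_eq [CharP F 7] (c : F) :
    ([(41, c), (27, 1), (25, 1), (24, 1)].map fun q : ℕ × F => chevF4.x F q.1 q.2).prod ^ 7 ^ 2 = 1 := by
  have hf : Fact (Nat.Prime 7) := ⟨by norm_num⟩
  refine prod_pow_eq_one (ht := htB) _ (fun q hq => ?_) htB_lt (by norm_num) (by decide)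
  simp at hq
  rcases hq with rfl | rfl | rfl | rfl
  · exact htB_41
  · exact htB_27
  · exact htB_25
  · exact htB_24

/-- regular unipotent elements: the order is a power of `p` -/
theorem reg_eq {p : ℕ} [Fact p.Prime] [CharP F p] {n : ℕ} (hn : 23 ≤ p ^ n) :
    ([(33, 1), (27, 1), (25, 1), (24, 1)].map fun q : ℕ × F => chevF4.x F q.1 q.2).prod ^ p ^ n = 1 := by
  refine prod_pow_eq_one (ht := ht4) _ (fun q hq => ?_) ht4_lt hn (by decide)
  simp at hq
  rcases hq with rfl | rfl | rfl | rfl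
  · exact ht_33
  · exact ht_27
  · exact ht_25
  · exact ht_24

end Cfsg.Agent.H351.F4Out.Num
end

-- part: H351/F4Out/Three
section
/-!
# The regular unipotent elements of `F₄` in characteristic 3 (helper351, for S3479)

* `three_ne` : `(x₁(1) x₂(1) x₃(1) x₄(1)) ^ 9 ≠ 1` (sparse matrix arithmetic modulo 3).
-/

set_option autoImplicit false

namespace Cfsg.Agent.H351.F4Out.Three

open Cfsg Cfsg.Lie Cfsg.Agent.ChevalleyStructure.XColumns Cfsg.Agent.H351.F4Out.Lin Cfsg.Agent.H351.F4Out.Num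
open scoped Matrix

universe u

variable {D : ChevalleyDatum} {F : Type u} [Field F]

theorem toF_append (v w : List (ℕ × ℤ)) : toF D F (v ++ w) = toF D F v + toF D F w := by simp [toF]

theorem toF_map (a : ℤ) (L : List (ℕ × ℤ)) : toF D F (L.map fun b => (b.1, a * b.2)) = (a : F) • toF D F L := by
  induction L with
  | nil => simp [toF]
  | cons b L ih =>
    rw [List.map_cons, toF_cons, ih, toF_cons, smul_add, smul_smul]
    push_cast
    rfl

/-- normal form modulo `p` -/
def nrm (n : ℕ) (p : ℤ) (v : List (ℕ × ℤ)) : List (ℕ × ℤ) :=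
  (List.range n).filterMap fun j => let c := coef v j % p; if c = 0 then none else some (j, c)

theorem toF_apply (v : List (ℕ × ℤ)) (i : D.Idx) : toF D F v i = (coef v (code D i) : F) := by
  induction v with
  | nil => simp [toF, coef]
  | cons a v ih =>
    rw [toF_cons, Pi.add_apply, ih, Pi.smul_apply, smul_eq_mul]
    by_cases h : a.1 = code D i
    · have h1 : bv D F a.1 i = 1 := by simp [bv, h]
      have h2 : coef (a :: v) (code D i) = a.2 + coef v (code D i) := by simp [coef, h]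
      rw [h1, h2]
      push_cast
      ring
    · have h1 : bv D F a.1 i = 0 := by
        have : ¬ code D i = a.1 := fun h' => h h'.symm
        simp [bv, this]
      have h2 : coef (a :: v) (code D i) = coef v (code D i) := by simp [coef, h]
      rw [h1, h2, mul_zero, zero_add]

theorem coef_nrm (n : ℕ) (p : ℤ) (v : List (ℕ × ℤ)) {j : ℕ} (hj : j < n) : coef (nrm n p v) j = coef v j % p := by
  have key : ∀ l : List ℕ, l.Nodup →
      coef (l.filterMap fun j => let c := coef v j % p; if c = 0 then none else some (j, c)) j =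
        if j ∈ l then coef v j % p else 0 := by
    intro l hl
    induction l with
    | nil => simp [coef]
    | cons a l ih =>
      rw [List.nodup_cons] at hl
      rw [List.filterMap_cons]
      by_cases h0 : coef v a % p = 0
      · simp only [h0, if_true]
        rw [ih hl.2]
        by_cases h1 : j = a
        · subst h1
          simp [hl.1, h0]
        · simp [h1]
      · simp only [h0, if_false]
        by_cases h1 : j = a
        · subst h1
          have h2 := ih hl.2
          rw [if_neg hl.1] at h2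
          have h3 : ∀ w : List (ℕ × ℤ), coef ((j, coef v j % p) :: w) j = coef v j % p + coef w j := by
            intro w
            simp [coef]
          rw [h3, h2]
          simp
        · have h3 : ∀ w : List (ℕ × ℤ), coef ((a, coef v a % p) :: w) j = coef w j := by
            intro w
            have : ¬ a = j := fun h => h1 h.symm
            simp [coef, this]
          rw [h3, ih hl.2]
          simp [h1]
  rw [nrm, key _ List.nodup_range, if_pos (List.mem_range.2 hj)]

theorem toF_nrm {p : ℕ} [CharP F p] (v : List (ℕ × ℤ)) : toF D F (nrm (D.rank + D.nroots) p v) = toF D F v := by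
  funext i
  rw [toF_apply, toF_apply, coef_nrm _ _ _ (code_lt i)]
  have h : ((coef v (code D i) % (p : ℤ) : ℤ) : F) = ((coef v (code D i) : ℤ) : F) := by
    have h1 := Int.emod_add_mul_ediv (coef v (code D i)) p
    have h2 : (((p : ℤ)) : F) = 0 := by
      rw [Int.cast_natCast]; exact CharP.cast_eq_zero F p
    calc ((coef v (code D i) % (p : ℤ) : ℤ) : F)
        = ((coef v (code D i) % (p : ℤ) : ℤ) : F) + ((p : ℤ) : F) * ((coef v (code D i) / (p : ℤ) : ℤ) : F) := by
          rw [h2, zero_mul, add_zero]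
      _ = ((coef v (code D i) % (p : ℤ) + (p : ℤ) * (coef v (code D i) / (p : ℤ)) : ℤ) : F) := by push_cast; ring
      _ = _ := by rw [h1]
  exact h

/-- the action of `x_r(1)` -/
def act1 (D : ChevalleyDatum) (r : ℕ) (v : List (ℕ × ℤ)) : List (ℕ × ℤ) :=
  v.flatMap fun a => (a.1, a.2) :: (((col1 D r a.1).map fun b => (b.1, a.2 * b.2)) ++
    ((col2 D r a.1).map fun b => (b.1, a.2 * b.2)))

theorem act1_spec {r : ℕ} (h : Ok D r) {v : List (ℕ × ℤ)} (hv : ∀ a ∈ v, a.1 < D.rank + D.nroots) :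
    D.x F r 1 *ᵥ toF D F v = toF D F (act1 D r v) := by
  induction v with
  | nil => simp [toF, act1]
  | cons a v ih =>
    have h1 : act1 D r (a :: v) = ((a.1, a.2) :: (((col1 D r a.1).map fun b => (b.1, a.2 * b.2)) ++
        ((col2 D r a.1).map fun b => (b.1, a.2 * b.2)))) ++ act1 D r v := by
      simp [act1]
    rw [toF_cons, Matrix.mulVec_add, ih fun a' ha' => hv a' (List.mem_cons_of_mem _ ha'), h1, toF_append, toF_cons,
      toF_append, toF_map, toF_map, Matrix.mulVec_smul, x_mulVec_bv h (hv a (by simp)), one_smul, one_pow, one_smul,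
      smul_add, smul_add, add_assoc ((a.2 : F) • bv D F a.1)]

/-- the action of a word -/
def run (D : ChevalleyDatum) (p : ℕ) : List ℕ → List (ℕ × ℤ) → List (ℕ × ℤ)
  | [], v => v
  | r :: w, v => nrm (D.rank + D.nroots) p (act1 D r (run D p w v))

theorem nrm_range (n : ℕ) (p : ℤ) (v : List (ℕ × ℤ)) : ∀ a ∈ nrm n p v, a.1 < n := by
  intro a ha
  rw [nrm, List.mem_filterMap] at ha
  obtain ⟨j, hj, h⟩ := ha
  rw [List.mem_range] at hj
  by_cases h0 : coef v j % p = 0
  · simp [h0] at h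
  · simp only [h0, if_false, Option.some.injEq] at h
    rw [← h]
    exact hj

theorem run_range {p : ℕ} {w : List ℕ} {v : List (ℕ × ℤ)} (hv : ∀ a ∈ v, a.1 < D.rank + D.nroots) :
    ∀ a ∈ run D p w v, a.1 < D.rank + D.nroots := by
  cases w with
  | nil => exact hv
  | cons r w => exact nrm_range _ _ _

theorem run_spec {p : ℕ} [CharP F p] {w : List ℕ} (hw : ∀ r ∈ w, Ok D r) {v : List (ℕ × ℤ)}
    (hv : ∀ a ∈ v, a.1 < D.rank + D.nroots) :
    (w.map fun r => D.x F r 1).prod *ᵥ toF D F v = toF D F (run D p w v) := by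
  induction w with
  | nil => simp [run]
  | cons r w ih =>
    rw [List.map_cons, List.prod_cons, ← Matrix.mulVec_mulVec, ih fun r' hr' => hw r' (List.mem_cons_of_mem _ hr'),
      act1_spec (hw r (by simp)) (run_range hv), run, toF_nrm]

/-- the word of `u ^ 9` -/
def w9 : List ℕ := (List.replicate 9 [33, 27, 25, 24]).flatten

theorem run9 : coef (run chevF4 3 w9 [(3, 1)]) 51 = 1 := by (delta Cfsg.Agent.H351.F4Out.Lin.col1 Cfsg.Agent.H351.F4Out.Lin.col2 Cfsg.Agent.H351.F4Out.Three.act1 Cfsg.Agent.H351.F4Out.Three.run Cfsg.Agent.H351.F4Out.Three.run._f; rewrite [Cfsg.Agent.ChevFast.F4.cartan, Cfsg.Agent.ChevFast.F4.chainEntry, Cfsg.Agent.ChevFast.F4.coroot, Cfsg.Agent.ChevFast.F4.neg]; decide +kernel)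

/-- **Characteristic 3.** -/
theorem three_ne [CharP F 3] :
    ([(33, 1), (27, 1), (25, 1), (24, 1)].map fun q : ℕ × F => chevF4.x F q.1 q.2).prod ^ 9 ≠ 1 := by
  intro h
  have hw : ∀ r ∈ w9, Ok chevF4 r := by
    intro r hr
    have : r = 33 ∨ r = 27 ∨ r = 25 ∨ r = 24 := by
      have h1 : ∀ r ∈ w9, r = 33 ∨ r = 27 ∨ r = 25 ∨ r = 24 := by decide
      exact h1 r hr
    rcases this with rfl | rfl | rfl | rfl
    · exact ht_33.toOk
    · exact ht_27.toOk
    · exact ht_25.toOk
    · exact ht_24.toOk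
  have h1 := run_spec (D := chevF4) (F := F) (p := 3) hw (v := [(3, 1)]) (by decide)
  have h2 : (w9.map fun r => chevF4.x F r 1).prod =
      ([(33, 1), (27, 1), (25, 1), (24, 1)].map fun q : ℕ × F => chevF4.x F q.1 q.2).prod ^ 9 := by
    have h3 : w9.map (fun r => chevF4.x F r 1) =
        (List.replicate 9 ([(33, 1), (27, 1), (25, 1), (24, 1)].map fun q : ℕ × F => chevF4.x F q.1 q.2)).flatten := rfl
    rw [h3, List.prod_flatten, List.map_replicate, List.prod_replicate]
  rw [h2, h, Matrix.one_mulVec] at h1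
  have h4 := congrFun h1 (ix 47 (by norm_num))
  rw [toF_apply, toF_apply] at h4
  have e : code chevF4 (ix 47 (by norm_num)) = 51 := rfl
  rw [e, run9] at h4
  have e2 : coef [(3, 1)] 51 = 0 := by decide
  rw [e2, Int.cast_zero, Int.cast_one] at h4
  exact zero_ne_one h4

end Cfsg.Agent.H351.F4Out.Three
end

-- part: H351/F4Out/Elt
section
/-!
# Unipotent elements of `F₄(q)` (helper351, for S3479)

* `uw L` : the product of the root elements in the list `L`;
* `exists_order` : elements of order 16, 27, 49, 121 in characteristic 2, 3, 7, 11.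
-/

set_option autoImplicit false

namespace Cfsg.Agent.H351.F4Out.Elt

open Cfsg Cfsg.Lie Cfsg.Agent.CpAut.RgdUntw Cfsg.Agent.ChevalleyStructure.Elts Cfsg.Agent.H70.ChevFix
  Cfsg.Agent.H69.OutGF Cfsg.Agent.H351.F4Out.Lin Cfsg.Agent.H351.F4Out.Num Cfsg.Agent.H351.F4Out.Three

universe u

variable {F : Type u} [Field F]

/-- a product of root elements -/
noncomputable def uw (L : List (ℕ × F)) : ↥(chevF4.group F) := (L.map fun q => xe hF4 q.1 q.2).prod

theorem coe_uw (L : List (ℕ × F)) : (((uw L : ↥(chevF4.group F)) : GL chevF4.Idx F) : Matrix chevF4.Idx chevF4.Idx F) =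
    (L.map fun q => chevF4.x F q.1 q.2).prod := by
  induction L with
  | nil => rfl
  | cons q L ih =>
    have h1 : uw (q :: L) = xe hF4 q.1 q.2 * uw L := by simp [uw]
    rw [h1, Subgroup.coe_mul, Units.val_mul, ih, List.map_cons, List.prod_cons, coe_coe_xe]

theorem uw_pow_eq_one {L : List (ℕ × F)} {n : ℕ} :
    uw L ^ n = 1 ↔ (L.map fun q => chevF4.x F q.1 q.2).prod ^ n = 1 := by
  rw [← coe_uw, ← Units.val_pow_eq_pow_val, ← Subgroup.coe_pow]
  constructor
  · intro h
    rw [h]
    rfl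
  · intro h
    apply Subtype.ext
    apply Units.ext
    exact h

theorem uw_append (L L' : List (ℕ × F)) : uw (L ++ L') = uw L * uw L' := by simp [uw]

theorem fld_xe (σ : F ≃+* F) (r : ℕ) (t : F) : fld chevF4 σ (xe hF4 r t) = xe hF4 r (σ t) := by
  apply eq_xe hF4
  rw [fld_coe, coe_coe_xe]
  exact Cfsg.Agent.ChevStructure.FieldMap.x_map chevF4 (σ : F →+* F) r t

theorem fld_uw (σ : F ≃+* F) (L : List (ℕ × F)) : fld chevF4 σ (uw L) = uw (L.map fun q => (q.1, σ q.2)) := by
  induction L with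
  | nil => simp only [uw, _root_.List.map_nil, _root_.List.prod_nil, _root_.map_one]
  | cons q L ih =>
    have h1 : uw (q :: L) = xe hF4 q.1 q.2 * uw L := by simp [uw]
    rw [h1, map_mul, ih, fld_xe]
    simp [uw]

/-- the order is a power of `p` and large -/
theorem exists_orderOf {G : Type*} [Group G] {u : G} {p N j : ℕ} (hp : p.Prime) (h1 : u ^ p ^ N = 1) (h2 : u ^ p ^ j ≠ 1) :
    ∃ k, j + 1 ≤ k ∧ orderOf u = p ^ k := by
  obtain ⟨k, -, hk⟩ := (Nat.dvd_prime_pow hp).1 (orderOf_dvd_of_pow_eq_one h1)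
  refine ⟨k, ?_, hk⟩
  by_contra hlt
  apply h2
  apply orderOf_dvd_iff_pow_eq_one.1
  rw [hk]
  exact pow_dvd_pow p (by omega)

theorem exists_pow_orderOf {G : Type*} [Group G] {a : G} {n : ℕ} (hn : n ∣ orderOf a) (h0 : orderOf a ≠ 0) :
    ∃ j, orderOf (a ^ j) = n := by
  obtain ⟨j, hj⟩ := hn
  have hj0 : j ≠ 0 := by rintro rfl; exact h0 (by rw [hj, mul_zero])
  refine ⟨j, ?_⟩
  rw [orderOf_pow_of_dvd hj0 (by rw [hj]; exact dvd_mul_left _ _), hj, Nat.mul_div_cancel _ (Nat.pos_of_ne_zero hj0)]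

/-- the regular unipotent element over the prime field -/
noncomputable def reg (F : Type u) [Field F] : ↥(chevF4.group F) := uw [(33, 1), (27, 1), (25, 1), (24, 1)]

theorem fld_reg (σ : F ≃+* F) : fld chevF4 σ (reg F) = reg F := by
  rw [reg, fld_uw]
  simp only [_root_.List.map_cons, _root_.map_one, _root_.List.map_nil]

theorem reg_order_two [CharP F 2] : ∃ k, 4 ≤ k ∧ orderOf (reg F) = 2 ^ k := by
  have hf : Fact (Nat.Prime 2) := ⟨Nat.prime_two⟩
  refine exists_orderOf (N := 5) (j := 3) Nat.prime_two (uw_pow_eq_one.2 (reg_eq (by norm_num))) fun h => ?_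
  rw [reg, uw_pow_eq_one] at h
  exact two_ne _ (fun q hq => by simp at hq; rcases hq with rfl | rfl | rfl | rfl <;> simp) (by simp [Num.NN]) h

theorem reg_order_three [CharP F 3] : ∃ k, 3 ≤ k ∧ orderOf (reg F) = 3 ^ k := by
  have hf : Fact (Nat.Prime 3) := ⟨Nat.prime_three⟩
  refine exists_orderOf (N := 3) (j := 2) Nat.prime_three (uw_pow_eq_one.2 (reg_eq (by norm_num))) fun h => ?_
  rw [reg, uw_pow_eq_one] at h
  exact three_ne h

theorem reg_order_eleven [CharP F 11] : ∃ k, 2 ≤ k ∧ orderOf (reg F) = 11 ^ k := by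
  have hp : Nat.Prime 11 := by norm_num
  have hf : Fact (Nat.Prime 11) := ⟨hp⟩
  refine exists_orderOf (N := 2) (j := 1) hp (uw_pow_eq_one.2 (reg_eq (by norm_num))) fun h => ?_
  rw [reg, uw_pow_eq_one] at h
  exact eleven_ne h

/-- the regular unipotent elements of the subsystem `B₄` -/
noncomputable def regB (c : F) : ↥(chevF4.group F) := uw [(41, c), (27, 1), (25, 1), (24, 1)]

theorem regB_order [CharP F 7] {c : F} (hc : c ≠ 0) : ∃ k, 2 ≤ k ∧ orderOf (regB c) = 7 ^ k := by
  have hp : Nat.Prime 7 := by norm_num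
  refine exists_orderOf (N := 2) (j := 1) hp (uw_pow_eq_one.2 (seven_eq c)) fun h => ?_
  rw [regB, uw_pow_eq_one] at h
  exact seven_ne hc h

/-- **Elements of maximal order of the Sylow subgroups.** -/
theorem exists_order [Finite F] (p : ℕ) [CharP F p] :
    (p = 2 → ∃ x : ↥(chevF4.group F), orderOf x = 16) ∧ (p = 3 → ∃ x : ↥(chevF4.group F), orderOf x = 27) ∧
    (p = 7 → ∃ x : ↥(chevF4.group F), orderOf x = 49) ∧ (p = 11 → ∃ x : ↥(chevF4.group F), orderOf x = 121) := by
  have key : ∀ (x : ↥(chevF4.group F)) (n : ℕ), n ∣ orderOf x → ∃ x : ↥(chevF4.group F), orderOf x = n := by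
    intro x n hn
    obtain ⟨j, hj⟩ := exists_pow_orderOf hn (orderOf_pos x).ne'
    exact ⟨_, hj⟩
  refine ⟨?_, ?_, ?_, ?_⟩
  · rintro rfl
    obtain ⟨k, hk, h⟩ := reg_order_two (F := F)
    exact key (reg F) 16 (by rw [h]; exact pow_dvd_pow 2 hk)
  · rintro rfl
    obtain ⟨k, hk, h⟩ := reg_order_three (F := F)
    exact key (reg F) 27 (by rw [h]; exact pow_dvd_pow 3 hk)
  · rintro rfl
    obtain ⟨k, hk, h⟩ := regB_order (F := F) one_ne_zero
    exact key (regB 1) 49 (by rw [h]; exact pow_dvd_pow 7 hk)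
  · rintro rfl
    obtain ⟨k, hk, h⟩ := reg_order_eleven (F := F)
    exact key (reg F) 121 (by rw [h]; exact pow_dvd_pow 11 hk)

end Cfsg.Agent.H351.F4Out.Elt
end

private theorem dce_99b46964d384 : _root_.True := by
  try have : _root_.True := by simp only [_root_.Cfsg.Agent.H351.F4Out.Num.wtB.eq_1]
  try have : _root_.True := by simp only [_root_.Cfsg.Agent.H351.F4Out.Elt.regB.eq_1]
  try have : _root_.True := by simp only [_root_.Cfsg.Agent.ChevalleyStructure.XColumns.ev.eq_1]
  try have : _root_.True := by simp only [_root_.Cfsg.Agent.H351.F4Out.Num.okB.eq_1]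
  try have : _root_.True := by simp only [_root_.Cfsg.Agent.H351.F4Out.Lin.col1.eq_1]
  try have : _root_.True := by simp only [_root_.Cfsg.Agent.ChevalleyStructure.XColumns.ev.eq_2]
  try have : _root_.True := by simp only [_root_.Cfsg.Agent.H351.F4Out.Three.run.eq_def]
  try have : _root_.True := by simp only [_root_.Cfsg.Agent.H351.F4Out.Num.steps.eq_def]
  try have : _root_.True := by simp only [_root_.Cfsg.Agent.H351.F4Out.Elt.reg.eq_1]
  try have : _root_.True := by simp only [_root_.Cfsg.Agent.ChevalleyStructure.XColumns.hv.eq_1]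
  try have : _root_.True := by simp only [_root_.Cfsg.Agent.H351.F4Out.Num.steps.eq_2]
  try have : _root_.True := by simp only [_root_.Cfsg.Agent.H351.F4Out.Three.run.eq_2]
  try have : _root_.True := by simp only [_root_.Cfsg.Agent.H351.F4Out.Lin.toF.eq_1]
  try have : _root_.True := by simp only [_root_.Cfsg.Agent.H351.F4Out.Lin.bv.eq_1]
  try have : _root_.True := by simp only [_root_.Cfsg.Agent.H351.F4Out.Three.act1.eq_1]
  try have : _root_.True := by simp only [_root_.Cfsg.Agent.H351.F4Out.Num.steps.eq_1]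
  try have : _root_.True := by simp only [_root_.Cfsg.Agent.H351.F4Out.Three.run.eq_1]
  try have : _root_.True := by simp only [_root_.Cfsg.Agent.H351.F4Out.Num.NN.eq_1]
  try have : _root_.True := by simp only [_root_.Cfsg.Agent.H351.F4Out.Elt.uw.eq_1]
  try have : _root_.True := by simp only [_root_.Cfsg.Agent.H351.F4Out.Num.toW.eq_1]
  try have : _root_.True := by simp only [_root_.Cfsg.Agent.H351.F4Out.Three.nrm.eq_1]
  try have : _root_.True := by simp only [_root_.Cfsg.Agent.ChevalleyStructure.XColumns.hv.eq_2]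
  try have : _root_.True := by simp only [_root_.Cfsg.Agent.H351.F4Out.Num.step.eq_1]
  try have : _root_.True := by simp only [_root_.Cfsg.Agent.H351.F4Out.Lin.code.eq_2]
  try have : _root_.True := by simp only [_root_.Cfsg.Agent.H351.F4Out.Lin.code.eq_1]
  try have : _root_.True := by simp only [_root_.Cfsg.Agent.H351.F4Out.Num.coef.eq_1]
  try have : _root_.True := by simp only [_root_.Cfsg.Agent.H351.F4Out.Lin.col2.eq_1]
  exact _root_.True.intro
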